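import Cfsg.Agent.Lib.Char.SignedIrr

/-!
# Decompositions of generalized characters with a given Gram matrix

A kernel-cheap search for all coefficient matrices of a family of generalized characters of norm at
most four against a family of orthogonal signed irreducibles, and its soundness.
-/

set_option autoImplicit false
set_option linter.unusedSectionVars false

namespace CfsgLib.Char.GramSearch

open Cfsg CfsgLib.Char CfsgLib.Char.Signed

universe u

/-- The dot product of two lists. -/
def dot : List ℤ → List ℤ → ℤ
  | a :: v, b :: w => a * b + dot v w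
  | _, _ => 0

/-- The row `j` of a matrix given by its columns. -/
def row (j : ℕ) (cs : List (List ℤ)) : List ℤ := cs.map fun c => c.getD j 0

/-- The possible coefficient vectors of a new function with targets `t` and norm at most `rem`. -/
def go : ℤ → List (List ℤ) → List ℤ → List (List ℤ × ℤ)
  | rem, [], t => if t.all (fun x => x == 0) then [([], rem)] else []
  | rem, c :: cs, t =>
    if (List.range t.length).any (fun j =>
        decide (rem * dot (row j (c :: cs)) (row j (c :: cs)) < t.getD j 0 * t.getD j 0)) then []
    else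
      [-2, -1, 0, 1, 2].flatMap fun a : ℤ =>
        if a * a ≤ rem then
          (go (rem - a * a) cs ((List.range t.length).map fun j => t.getD j 0 - a * c.getD j 0)).map
            fun r => (a :: r.1, r.2)
        else []

/-- The multiplicities in a generalized character of small norm. -/
def parts (n : ℤ) : List (List ℤ) :=
  if n = 0 then [[]] else if n = 1 then [[1]] else if n = 2 then [[1, 1]]
  else if n = 3 then [[1, 1, 1]] else if n = 4 then [[1, 1, 1, 1], [2]] else []

/-- One step of the search. -/
def step (g : ℕ → ℕ → ℤ) (i : ℕ) (cs : List (List ℤ)) : List (List (List ℤ)) :=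
  (go (g i i) cs ((List.range i).map (g i))).flatMap fun r =>
    (parts r.2).map fun pt =>
      List.zipWith (fun c a => c ++ [a]) cs r.1 ++ pt.map fun a => List.replicate i 0 ++ [a]

/-- All coefficient matrices of the first `n` functions. -/
def run (g : ℕ → ℕ → ℤ) : ℕ → List (List (List ℤ))
  | 0 => [[]]
  | n + 1 => (run g n).flatMap (step g n)

theorem dot_self_nonneg : ∀ v : List ℤ, 0 ≤ dot v v
  | [] => le_refl 0
  | a :: v => add_nonneg (mul_self_nonneg a) (dot_self_nonneg v)

theorem dot_sq_le : ∀ v w : List ℤ, v.length = w.length →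
    dot v w * dot v w ≤ dot v v * dot w w
  | [], [], _ => le_refl 0
  | a :: v, b :: w, h => by
    have ih := dot_sq_le v w (Nat.succ.inj h)
    have hv := dot_self_nonneg v
    have hw := dot_self_nonneg w
    simp only [dot]
    by_cases hv0 : dot v v = 0
    · have : dot v w = 0 := mul_self_eq_zero.1 (le_antisymm (by rw [hv0] at ih; simpa using ih)
        (mul_self_nonneg _))
      rw [this, hv0]
      nlinarith [mul_nonneg (mul_self_nonneg a) hw]
    · have key : 0 ≤ dot v v * (a * a * dot w w + b * b * dot v v - 2 * (a * b) * dot v w) := by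
        nlinarith [mul_self_nonneg (b * dot v v - a * dot v w),
          mul_le_mul_of_nonneg_left ih (mul_self_nonneg a)]
      have := nonneg_of_mul_nonneg_right key (lt_of_le_of_ne hv (Ne.symm hv0))
      nlinarith

theorem abs_le_two {a : ℤ} (h : a * a ≤ 4) : a ∈ [(-2 : ℤ), -1, 0, 1, 2] := by
  have h1 : a ≤ 2 := by nlinarith
  have h2 : -2 ≤ a := by nlinarith
  interval_cases a <;> simp

theorem mem_go : ∀ (cs : List (List ℤ)) (v : List ℤ) (rem : ℤ) (t : List ℤ), v.length = cs.length →
    rem ≤ 4 → dot v v ≤ rem → (∀ j < t.length, dot v (row j cs) = t.getD j 0) →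
    (v, rem - dot v v) ∈ go rem cs t := by
  intro cs
  induction cs with
  | nil =>
    intro v rem t hv _ _ ht
    obtain rfl := List.eq_nil_of_length_eq_zero hv
    have hall : t.all (fun x => x == 0) = true := by
      rw [List.all_eq_true]
      intro x hx
      obtain ⟨j, hj, rfl⟩ := List.getElem_of_mem hx
      have := ht j hj
      rw [List.getD_eq_getElem _ _ hj] at this
      simpa [dot, row] using this.symm
    simp only [go, hall, if_true, dot]
    simp
  | cons c cs ih =>
    intro v rem t hv hr hle ht
    obtain ⟨a, v, rfl⟩ : ∃ a w, v = a :: w := by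
      cases v with
      | nil => simp at hv
      | cons a w => exact ⟨a, w, rfl⟩
    have hv' : v.length = cs.length := Nat.succ.inj hv
    simp only [dot] at hle
    have hnn := dot_self_nonneg v
    simp only [go]
    rw [if_neg]
    · rw [List.mem_flatMap]
      refine ⟨a, abs_le_two (by omega), ?_⟩
      rw [if_pos (by omega), List.mem_map]
      refine ⟨(v, rem - a * a - dot v v), ih v _ _ hv' (by nlinarith [mul_self_nonneg a]) (by omega) ?_, ?_⟩
      · intro j hj
        rw [List.length_map, List.length_range] at hj
        rw [List.getD_eq_getElem _ _ (by simpa using hj), List.getElem_map, List.getElem_range]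
        have := ht j hj
        simp only [row, List.map_cons, dot] at this ⊢
        omega
      · simp only [dot]
        rw [sub_sub]
    · rw [Bool.not_eq_true, List.any_eq_false]
      intro j hj
      rw [List.mem_range] at hj
      rw [decide_eq_true_eq, not_lt, ← ht j hj]
      refine (dot_sq_le _ _ (by simpa [row] using hv')).trans ?_
      refine mul_le_mul_of_nonneg_right ?_ (dot_self_nonneg _)
      simp only [dot]
      omega

theorem mem_parts : ∀ (pt : List ℤ), (∀ a ∈ pt, 1 ≤ a) → dot pt pt ≤ 4 → pt ∈ parts (dot pt pt) := by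
  intro pt hp hle
  rcases pt with _ | ⟨a, _ | ⟨b, _ | ⟨c, _ | ⟨d, _ | ⟨e, r⟩⟩⟩⟩⟩
  · simp [dot, parts]
  all_goals simp only [List.mem_cons, List.not_mem_nil, or_false, forall_eq_or_imp, forall_eq] at hp
  all_goals simp only [dot] at hle ⊢
  · have : a ≤ 2 := by nlinarith
    obtain rfl | rfl : a = 1 ∨ a = 2 := by omega
    · simp [parts]
    · simp [parts]
  · obtain ⟨h1, h2⟩ := hp
    obtain rfl : a = 1 := by nlinarith
    obtain rfl : b = 1 := by nlinarith
    simp [parts]
  · obtain ⟨h1, h2, h3⟩ := hp
    obtain rfl : a = 1 := by nlinarith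
    obtain rfl : b = 1 := by nlinarith
    obtain rfl : c = 1 := by nlinarith
    simp [parts]
  · obtain ⟨h1, h2, h3, h4⟩ := hp
    obtain rfl : a = 1 := by nlinarith
    obtain rfl : b = 1 := by nlinarith
    obtain rfl : c = 1 := by nlinarith
    obtain rfl : d = 1 := by nlinarith
    simp [parts]
  · exfalso
    obtain ⟨h1, h2, h3, h4, h5, -⟩ := hp
    have := dot_self_nonneg r
    nlinarith

variable {G : Type u} [Group G] [Fintype G]

/-- The linear combination. -/
noncomputable def comb : List ℤ → List (G → ℂ) → G → ℂ
  | a :: v, x :: l => (a : ℂ) • x + comb v l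
  | _, _ => 0

theorem comb_gen : ∀ (v : List ℤ) {l : List (G → ℂ)}, (∀ x ∈ l, Gen x) → Gen (comb v l)
  | [], _, _ => by simp only [comb]; exact isGeneralizedCharacter_zero
  | _ :: _, [], _ => by simp only [comb]; exact isGeneralizedCharacter_zero
  | a :: v, x :: l, h => by
    simp only [comb]
    exact isGeneralizedCharacter_add (Gen.zsmul (h x List.mem_cons_self) a)
      (comb_gen v fun y hy => h y (List.mem_cons_of_mem _ hy))

theorem iq_comb_left : ∀ (v : List ℤ) {l : List (G → ℂ)}, (∀ x ∈ l, Gen x) → ∀ {g : G → ℂ},
    Gen g → iq (comb v l) g = dot v (l.map fun x => iq x g)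
  | [], l, _, g, _ => iq_eq _ (by simp [comb, dot, classInner_zero_left])
  | _ :: _, [], _, g, _ => iq_eq _ (by simp [comb, dot, classInner_zero_left])
  | a :: v, x :: l, h, g, hg => by
    have h' : ∀ y ∈ l, Gen y := fun y hy => h y (List.mem_cons_of_mem _ hy)
    simp only [comb, List.map_cons, dot]
    rw [iq_add_left (Gen.zsmul (h x List.mem_cons_self) a) (comb_gen v h') hg,
      iq_smul_left (h x List.mem_cons_self) hg, iq_comb_left v h' hg]

theorem orth_gen {l : List (G → ℂ)} (hl : Orth l) : ∀ x ∈ l, Gen x := fun x hx => (hl.1 x hx).gen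

theorem dot_eq_zero : ∀ (v w : List ℤ), (∀ b ∈ w, b = 0) → dot v w = 0
  | [], _, _ => by simp [dot]
  | _ :: _, [], _ => rfl
  | a :: v, b :: w, h => by
    simp only [dot, h b List.mem_cons_self, mul_zero, zero_add]
    exact dot_eq_zero v w fun c hc => h c (List.mem_cons_of_mem _ hc)

theorem map_iq_comb : ∀ {l : List (G → ℂ)}, Orth l → ∀ (w : List ℤ), w.length = l.length →
    (l.map fun x => iq x (comb w l)) = w := by
  intro l
  induction l with
  | nil => intro _ w hw; simp [List.eq_nil_of_length_eq_zero hw]
  | cons x l ih =>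
    intro hl w hw
    obtain ⟨b, w, rfl⟩ : ∃ b w', w = b :: w' := by
      cases w with
      | nil => simp at hw
      | cons b w' => exact ⟨b, w', rfl⟩
    obtain ⟨hsg, hp⟩ := hl
    rw [List.pairwise_cons] at hp
    have hl' : Orth l := ⟨fun y hy => hsg y (List.mem_cons_of_mem _ hy), hp.2⟩
    have hx := hsg x List.mem_cons_self
    have hg := orth_gen hl'
    have hc := comb_gen w hg
    simp only [comb, List.map_cons]
    refine List.cons_eq_cons.2 ⟨?_, ?_⟩
    · rw [iq_add_right hx.gen (Gen.zsmul hx.gen b) hc, iq_smul_right hx.gen hx.gen, hx.iq_self,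
        iq_comm hx.gen hc, iq_comb_left w hg hx.gen, dot_eq_zero, mul_one, add_zero]
      intro c hc'
      obtain ⟨y, hy, rfl⟩ := List.mem_map.1 hc'
      rw [iq_comm (hg y hy) hx.gen]
      exact hp.1 y hy
    · conv_rhs => rw [← ih hl' w (Nat.succ.inj hw)]
      refine List.map_congr_left fun y hy => ?_
      rw [iq_add_right (hg y hy) (Gen.zsmul hx.gen b) hc, iq_smul_right (hg y hy) hx.gen,
        iq_comm (hg y hy) hx.gen, hp.1 y hy, mul_zero, zero_add]

theorem iq_comb_comb {l : List (G → ℂ)} (hl : Orth l) (v w : List ℤ) (hw : w.length = l.length) :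
    iq (comb v l) (comb w l) = dot v w := by
  rw [iq_comb_left v (orth_gen hl) (comb_gen w (orth_gen hl)), map_iq_comb hl w hw]

theorem comb_append : ∀ (v : List ℤ) (l : List (G → ℂ)) (w : List ℤ) (m : List (G → ℂ)),
    v.length = l.length → comb (v ++ w) (l ++ m) = comb v l + comb w m
  | [], [], w, m, _ => by simp [comb]
  | a :: v, x :: l, w, m, h => by
    simp only [List.cons_append, comb]
    rw [comb_append v l w m (Nat.succ.inj h), add_assoc]

theorem comb_zeros : ∀ (v : List ℤ) (l : List (G → ℂ)), (∀ a ∈ v, a = 0) → comb v l = 0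
  | [], _, _ => by simp [comb]
  | _ :: _, [], _ => by simp [comb]
  | a :: v, x :: l, h => by
    simp only [comb, h a List.mem_cons_self, Int.cast_zero, zero_smul, zero_add]
    exact comb_zeros v l fun b hb => h b (List.mem_cons_of_mem _ hb)

theorem dot_add : ∀ (v w c : List ℤ), v.length = w.length →
    dot (List.zipWith (· + ·) v w) c = dot v c + dot w c
  | [], [], _, _ => by simp [dot]
  | a :: v, b :: w, [], _ => by simp [dot]
  | a :: v, b :: w, e :: c, h => by
    simp only [List.zipWith, dot, dot_add v w c (Nat.succ.inj h)]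
    ring

theorem comb_smul : ∀ (a : ℤ) (v : List ℤ) (l : List (G → ℂ)),
    comb (v.map (a * ·)) l = (a : ℂ) • comb v l
  | a, [], _ => by simp [comb]
  | a, _ :: _, [] => by simp [comb]
  | a, b :: v, x :: l => by
    simp only [List.map_cons, comb, comb_smul a v l, smul_add, smul_smul, Int.cast_mul]

theorem comb_add : ∀ (v w : List ℤ) (l : List (G → ℂ)), v.length = w.length →
    comb (List.zipWith (· + ·) v w) l = comb v l + comb w l
  | [], [], _, _ => by simp [comb]
  | a :: v, b :: w, [], _ => by simp [comb]
  | a :: v, b :: w, x :: l, h => by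
    simp only [List.zipWith, comb, comb_add v w l (Nat.succ.inj h), Int.cast_add, add_smul]
    abel

theorem dot_comm : ∀ v w : List ℤ, dot v w = dot w v
  | [], [] => rfl
  | [], _ :: _ => rfl
  | _ :: _, [] => rfl
  | a :: v, b :: w => by simp only [dot]; rw [dot_comm v w, mul_comm]

theorem parts_ne {n : ℤ} {pt : List ℤ} (h : pt ∈ parts n) : ∀ a ∈ pt, a ≠ 0 := by
  unfold parts at h
  split_ifs at h <;> simp at h <;>
    first
      | (subst h; simp)
      | (rcases h with rfl | rfl <;> simp)

/-- A generalized character of norm at most four, as a positive combination. -/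
theorem exists_parts {f : G → ℂ} (hf : Gen f) (h4 : iq f f ≤ 4) :
    ∃ pt ∈ parts (iq f f), ∃ l : List (G → ℂ), Orth l ∧ pt.length = l.length ∧ f = comb pt l := by
  classical
  have : Fintype (IrrCharacter G) := Fintype.ofFinite _
  obtain ⟨m, hm, he, hn⟩ := generalized_expand hf
  have hn' : ∑ ψ, m ψ ^ 2 = iq f f := (iq_eq _ hn).symm
  set S := (Finset.univ.filter fun ψ => m ψ ≠ 0).toList with hS
  let l := S.map fun ψ : IrrCharacter G => ((Int.sign (m ψ) : ℤ) : ℂ) • (ψ : G → ℂ)
  let pt := S.map fun ψ : IrrCharacter G => |m ψ|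
  have hdot : ∀ L : List (IrrCharacter G),
      dot (L.map fun ψ => |m ψ|) (L.map fun ψ => |m ψ|) = (L.map fun ψ => m ψ ^ 2).sum := by
    intro L
    induction L with
    | nil => rfl
    | cons a L ih => simp [dot, ih, sq]
  have hcomb : ∀ L : List (IrrCharacter G), comb (L.map fun ψ => |m ψ|)
      (L.map fun ψ : IrrCharacter G => ((Int.sign (m ψ) : ℤ) : ℂ) • (ψ : G → ℂ)) =
      (L.map fun ψ => (m ψ : ℂ) • (ψ : G → ℂ)).sum := by
    intro L
    induction L with
    | nil => simp [comb]
    | cons a L ih =>
      simp only [List.map_cons, comb, ih, List.sum_cons, smul_smul]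
      congr 2
      rw [← Int.cast_mul, mul_comm, Int.sign_mul_abs]
  have hpt : dot pt pt = iq f f := by
    rw [hdot, hS, Finset.sum_map_toList, ← hn', Finset.sum_filter]
    refine Finset.sum_congr rfl fun ψ _ => ?_
    by_cases h : m ψ = 0 <;> simp [h]
  have hmemS : ∀ ψ, ψ ∈ S ↔ m ψ ≠ 0 := fun ψ => by simp [hS]
  refine ⟨pt, hpt ▸ mem_parts pt ?_ (hpt ▸ h4), l, ⟨?_, ?_⟩, by simp [pt, l], ?_⟩
  · intro a ha
    obtain ⟨ψ, hψ, rfl⟩ := List.mem_map.1 ha
    exact Int.one_le_abs ((hmemS ψ).1 hψ)
  · intro x hx
    obtain ⟨ψ, hψ, rfl⟩ := List.mem_map.1 hx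
    rcases lt_or_gt_of_ne ((hmemS ψ).1 hψ) with h | h
    · rw [Int.sign_eq_neg_one_of_neg h]
      simpa using (Sg.of_irr ψ).neg
    · rw [Int.sign_eq_one_of_pos h]
      simpa using Sg.of_irr ψ
  · rw [List.pairwise_map]
    refine (Finset.nodup_toList _).imp fun {a b} hab => iq_eq _ ?_
    rw [classInner_smul_left, classInner_smul_right, classInner_irr_ne hab]
    simp
  · show f = comb pt l
    rw [hcomb, hS, Finset.sum_map_toList, Finset.sum_filter]
    conv_lhs => rw [he]
    refine Finset.sum_congr rfl fun ψ _ => ?_
    by_cases h : m ψ = 0 <;> simp [h]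

/-- Soundness of the search. -/
theorem exists_run (g : ℕ → ℕ → ℤ) (F : ℕ → G → ℂ) :
    ∀ n, (∀ i < n, Gen (F i) ∧ g i i ≤ 4) → (∀ i < n, ∀ j ≤ i, iq (F i) (F j) = g i j) →
      ∃ cs ∈ run g n, ∃ l : List (G → ℂ), Orth l ∧ cs.length = l.length ∧
        (∀ c ∈ cs, c.length = n) ∧ ∀ i < n, F i = comb (row i cs) l := by
  intro n
  induction n with
  | zero =>
    intro _ _
    exact ⟨[], by simp [run], [], ⟨by simp, List.Pairwise.nil⟩, rfl, by simp, by simp⟩
  | succ n ih =>
    intro hF hg
    obtain ⟨cs, hcs, l, hl, hlen, hclen, hrow⟩ := ih (fun i hi => hF i (by omega))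
      (fun i hi j hj => hg i (by omega) j hj)
    have hgl := orth_gen hl
    obtain ⟨hFn, hn4⟩ := hF n (by omega)
    set v := l.map fun x => iq (F n) x with hv
    have hvlen : v.length = l.length := by simp [hv]
    have hcg := comb_gen v hgl
    set r := F n - comb v l with hr
    have hrg : Gen r := isGeneralizedCharacter_sub hFn hcg
    have hcomm : (l.map fun x => iq x (F n)) = v :=
      List.map_congr_left fun x hx => iq_comm (hgl x hx) hFn
    have hrx : ∀ x ∈ l, iq r x = 0 := by
      intro x hx
      have : (l.map fun x => iq (comb v l) x) = v := by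
        conv_rhs => rw [← map_iq_comb hl v hvlen]
        exact List.map_congr_left fun y hy => iq_comm hcg (hgl y hy)
      rw [hr, iq_sub_left hFn hcg (hgl x hx), sub_eq_zero]
      exact (List.map_inj_left.1 (this.trans hv) x hx).symm
    have hrr : iq r r = g n n - dot v v := by
      rw [hr, iq_sub_left hFn hcg hrg, iq_sub_right hFn hFn hcg, iq_sub_right hcg hFn hcg,
        iq_comm hFn hcg, iq_comb_comb hl v v hvlen, iq_comb_left v hgl hFn, hcomm,
        hg n (by omega) n le_rfl]
      ring
    have hr0 := iq_self_nonneg hrg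
    obtain ⟨pt, hpt, l', hl', hptlen, hreq⟩ := exists_parts hrg (by
      have := dot_self_nonneg v; omega)
    have hvgo : (v, g n n - dot v v) ∈ go (g n n) cs ((List.range n).map (g n)) := by
      refine mem_go cs v _ _ (by rw [hvlen, hlen]) hn4 (by omega) fun j hj => ?_
      rw [List.length_map, List.length_range] at hj
      rw [List.getD_eq_getElem _ _ (by simpa using hj), List.getElem_map, List.getElem_range,
        ← hg n (by omega) j hj.le, hrow j hj, iq_comm hFn (comb_gen _ hgl), iq_comb_left _ hgl hFn,
        hcomm]
      exact (dot_comm _ _).symm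
    have hnew : Orth (l ++ l') := by
      refine ⟨fun x hx => (List.mem_append.1 hx).elim (hl.1 x) (hl'.1 x), ?_⟩
      rw [List.pairwise_append]
      refine ⟨hl.2, hl'.2, fun x hx y hy => ?_⟩
      have hry : iq r y ≠ 0 := by
        refine parts_ne hpt _ ?_
        have e : iq y r ∈ l'.map (fun z => iq z r) := List.mem_map.2 ⟨y, hy, rfl⟩
        rw [iq_comm hrg (hl'.1 y hy).gen]
        rwa [show (l'.map fun z => iq z r) = pt by rw [hreq]; exact map_iq_comb hl' pt hptlen] at e
      rcases (hl.1 x hx).iq_cases (hl'.1 y hy) with h | ⟨-, h⟩ | ⟨-, h⟩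
      · exact h
      · exact absurd (h ▸ hrx x hx) hry
      · refine absurd ?_ hry
        have := hrx x hx
        rwa [h, iq_neg_right hrg (hl'.1 y hy).gen, neg_eq_zero] at this
    refine ⟨List.zipWith (fun c a => c ++ [a]) cs v ++ pt.map (fun a => List.replicate n 0 ++ [a]),
      ?_, l ++ l', hnew, ?_, ?_, ?_⟩
    · rw [run, List.mem_flatMap]
      refine ⟨cs, hcs, ?_⟩
      rw [step, List.mem_flatMap]
      refine ⟨_, hvgo, List.mem_map.2 ⟨pt, ?_, rfl⟩⟩
      rwa [← hrr]
    · simp [hlen, hvlen, hptlen]
    · intro c hc
      rcases List.mem_append.1 hc with hc | hc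
      · obtain ⟨k, hk, rfl⟩ := List.getElem_of_mem hc
        rw [List.length_zipWith] at hk
        simp only [List.getElem_zipWith, List.length_append, List.length_singleton]
        rw [hclen _ (List.getElem_mem _)]
      · obtain ⟨a, -, rfl⟩ := List.mem_map.1 hc
        simp
    · intro i hi
      have e1 : row i (List.zipWith (fun c a => c ++ [a]) cs v ++
          pt.map fun a => List.replicate n 0 ++ [a]) =
          (if i < n then row i cs else v) ++ (if i < n then pt.map (fun _ => 0) else pt) := by
        rw [row, List.map_append]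
        congr 1
        · refine List.ext_getElem (by split_ifs <;> simp [row, hlen, hvlen]) fun k h1 h2 => ?_
          simp only [List.getElem_map, List.getElem_zipWith]
          have hk : k < cs.length := by simpa [hlen, hvlen] using h1
          have hc := hclen _ (List.getElem_mem hk)
          split_ifs with hin
          · simp only [row, List.getElem_map]
            rw [List.getD_eq_getElem _ _ (by simp [hc]; omega), List.getD_eq_getElem _ _ (by omega),
              List.getElem_append_left (by omega)]
          · obtain rfl : i = n := by omega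
            rw [List.getD_eq_getElem _ _ (by simp [hc]), List.getElem_append_right (by omega)]
            simp [hc]
        · rw [List.map_map]
          split_ifs with hin
          · refine List.map_congr_left fun a _ => ?_
            simp only [Function.comp_apply]
            rw [List.getD_eq_getElem _ _ (by simp; omega), List.getElem_append_left (by simp; omega)]
            simp
          · obtain rfl : i = n := by omega
            conv_rhs => rw [← List.map_id pt]
            refine List.map_congr_left fun a _ => ?_
            simp only [Function.comp_apply, id_eq]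
            rw [List.getD_eq_getElem _ _ (by simp), List.getElem_append_right (by simp)]
            simp
      rw [e1, comb_append _ _ _ _ (by split_ifs <;> simp [row, hlen, hvlen])]
      split_ifs with hin
      · rw [comb_zeros (pt.map fun _ => (0 : ℤ)) l' (by simp), add_zero, hrow i hin]
      · obtain rfl : i = n := by omega
        rw [← hreq, hr]
        abel

end CfsgLib.Char.GramSearch
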